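import Mathlib
import Groth.Agent.Lib.Helper6.Greenberg.GBa
import Groth.Agent.Lib.Helper4.FFAlg1

set_option linter.style.haveILetI false
set_option linter.unusedVariables false
set_option linter.unusedSectionVars false
set_option linter.overlappingInstances false
set_option autoImplicit false
set_option backward.isDefEq.respectTransparency.types false
set_option backward.isDefEq.respectTransparency false
set_option synthInstance.maxHeartbeats 400000
set_option maxHeartbeats 1600000

universe u

/-! helper7: a Krasner-type statement for complete discrete valuation rings: the integral closure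
`B` of `A` in a finite separable extension of its fraction field is determined, among discrete
valuation rings finite over `A`, by `B / ϖ^m B` for `m` large (S16501). Uses helper6's
Newton–Tougeron lemma. -/

open Polynomial IsLocalRing
open Groth.Agent.Lib.Helper6

namespace Groth.Agent.Helper7.DvrKrasner

section Newton

variable {C : Type*} [CommRing C]

theorem eval_aeval_X (p : C[X]) (y : Fin 1 → C) :
    MvPolynomial.eval y (Polynomial.aeval (MvPolynomial.X (0 : Fin 1)) p) = p.eval (y 0) := by
  induction p using Polynomial.induction_on' with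
  | add p q hp hq => simp [hp, hq]
  | monomial n a => simp [Polynomial.aeval_monomial, MvPolynomial.algebraMap_eq]

theorem pderiv_aeval_X (p : C[X]) :
    MvPolynomial.pderiv (0 : Fin 1)
        (Polynomial.aeval (MvPolynomial.X (0 : Fin 1) : MvPolynomial (Fin 1) C) p) =
      Polynomial.aeval (MvPolynomial.X (0 : Fin 1) : MvPolynomial (Fin 1) C) (derivative p) := by
  have h := (MvPolynomial.pderiv (R := C) (0 : Fin 1)).map_aeval p
    (MvPolynomial.X (0 : Fin 1) : MvPolynomial (Fin 1) C)
  rw [h, MvPolynomial.pderiv_X_self, smul_eq_mul, mul_one]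

/-- Newton's lemma in a `t`-adically complete ring, for one polynomial in one variable. -/
theorem exists_root (t : C) [IsAdicComplete (Ideal.span {t}) C]
    (F : C[X]) (c₀ d : C) (e k : ℕ) (hk : 1 ≤ k)
    (hd : F.derivative.eval c₀ * d = t ^ e)
    (h0 : t ^ (2 * e + k) ∣ F.eval c₀) : ∃ c : C, F.eval c = 0 := by
  obtain ⟨q, hq⟩ := h0
  obtain ⟨g, hg⟩ : ∃ g : Fin 1 → MvPolynomial (Fin 1) C,
      g = fun _ => Polynomial.aeval (MvPolynomial.X (0 : Fin 1)) F := ⟨_, rfl⟩
  obtain ⟨σ, hσ⟩ : ∃ σ : Fin 1 → Fin 1, σ = fun _ => 0 := ⟨_, rfl⟩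
  have hjd : Greenberg.jacDet g σ =
      Polynomial.aeval (MvPolynomial.X (0 : Fin 1)) (derivative F) := by
    unfold Greenberg.jacDet Greenberg.jac
    rw [Matrix.det_fin_one, Matrix.of_apply, hg, hσ]
    exact pderiv_aeval_X F
  have hj0 : MvPolynomial.eval (fun _ : Fin 1 => c₀) (Greenberg.jacDet g σ) =
      F.derivative.eval c₀ := by
    rw [hjd, eval_aeval_X]
  have hg0 : ∀ (y : Fin 1 → C) (i : Fin 1), MvPolynomial.eval y (g i) = F.eval (y 0) := by
    intro y i
    rw [hg]
    exact eval_aeval_X F y
  obtain ⟨y, hy, -⟩ := Greenberg.newton_tougeron t g σ (fun _ => c₀) k hk (by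
    intro i
    rw [hj0, hg0, Ideal.mem_span_singleton, hq]
    refine ⟨d ^ 2 * q, ?_⟩
    have h1 : t ^ (2 * e + k) = (F.derivative.eval c₀ * d) ^ 2 * t ^ k := by
      rw [hd]; ring
    rw [h1]; ring)
  exact ⟨y 0, by rw [← hg0 y 0]; exact hy 0⟩

end Newton

section Inj

/-- a discrete valuation ring finite over a discrete valuation ring is a torsion-free module. -/
theorem algebraMap_injective_of_dvr (A C : Type*) [CommRing A] [IsDomain A]
    [IsDiscreteValuationRing A] [CommRing C] [IsDomain C] [IsDiscreteValuationRing C]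
    [Algebra A C] [Module.Finite A C] : Function.Injective (algebraMap A C) := by
  rw [RingHom.injective_iff_ker_eq_bot]
  by_contra hne
  haveI : (RingHom.ker (algebraMap A C)).IsPrime := RingHom.ker_isPrime _
  have hmax : (RingHom.ker (algebraMap A C)).IsMaximal :=
    Ideal.IsPrime.isMaximal inferInstance hne
  haveI : Algebra.IsIntegral A C := Algebra.IsIntegral.of_finite A C
  haveI : (⊥ : Ideal C).IsPrime := Ideal.isPrime_bot
  have hbot : (⊥ : Ideal C).IsMaximal :=
    Ideal.isMaximal_of_isIntegral_of_isMaximal_comap (R := A) ⊥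
      (by rwa [← RingHom.ker_eq_comap_bot])
  exact IsDiscreteValuationRing.not_isField C (Ring.isField_iff_maximal_bot.mpr hbot)

end Inj

section Rank

/-- Nakayama: an isomorphism modulo an element of the maximal ideal bounds the rank. -/
theorem finrank_le_of_quotient_equiv (A : Type*) [CommRing A] [IsLocalRing A] (π : A)
    (hπ : π ∈ maximalIdeal A) (B C : Type*) [CommRing B] [CommRing C] [Algebra A B]
    [Algebra A C] [Module.Free A B] [Module.Finite A B] [Module.Finite A C]
    (φ : (B ⧸ Ideal.span {algebraMap A B π}) ≃ₐ[A] (C ⧸ Ideal.span {algebraMap A C π})) :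
    Module.finrank A C ≤ Module.finrank A B := by
  classical
  obtain ⟨qB, hqB⟩ : ∃ qB : B →ₐ[A] (B ⧸ Ideal.span {algebraMap A B π}),
      qB = Ideal.Quotient.mkₐ A _ := ⟨_, rfl⟩
  obtain ⟨qC, hqC⟩ : ∃ qC : C →ₐ[A] (C ⧸ Ideal.span {algebraMap A C π}),
      qC = Ideal.Quotient.mkₐ A _ := ⟨_, rfl⟩
  have hqCs : Function.Surjective qC := by rw [hqC]; exact Ideal.Quotient.mkₐ_surjective A _
  have hqBs : Function.Surjective qB := by rw [hqB]; exact Ideal.Quotient.mkₐ_surjective A _
  have hker : ∀ y : C, qC y = 0 → ∃ z : C, y = algebraMap A C π * z := by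
    intro y hy
    rw [hqC, Ideal.Quotient.mkₐ_eq_mk, Ideal.Quotient.eq_zero_iff_mem,
      Ideal.mem_span_singleton] at hy
    obtain ⟨z, hz⟩ := hy
    exact ⟨z, hz⟩
  let bas := Module.Free.chooseBasis A B
  choose cc hcc using fun i : Module.Free.ChooseBasisIndex A B => hqCs (φ (qB (bas i)))
  have hspan : (⊤ : Submodule A C) ≤ Submodule.span A (Set.range cc) := by
    apply Submodule.le_of_le_smul_of_le_jacobson_bot (I := Ideal.span {π}) Module.Finite.fg_top
    · rw [IsLocalRing.jacobson_eq_maximalIdeal ⊥ bot_ne_top, Ideal.span_le,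
        Set.singleton_subset_iff]
      exact hπ
    · intro y _
      obtain ⟨x, hx⟩ := hqBs (φ.symm (qC y))
      have h1 : qC y = φ (qB x) := by rw [hx, AlgEquiv.apply_symm_apply]
      have h3 : qC y = qC (∑ i, bas.repr x i • cc i) := by
        rw [h1]
        conv_lhs => rw [← bas.sum_repr x]
        simp only [map_sum, map_smul, hcc]
      have h4 : qC (y - ∑ i, bas.repr x i • cc i) = 0 := by
        rw [map_sub, h3, sub_self]
      obtain ⟨z, hz⟩ := hker _ h4
      have h5 : y = (∑ i, bas.repr x i • cc i) + π • z := by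
        rw [Algebra.smul_def, ← hz]; ring
      rw [h5]
      refine Submodule.add_mem_sup ?_ ?_
      · exact Submodule.sum_mem _ fun i _ =>
          Submodule.smul_mem _ _ (Submodule.subset_span ⟨i, rfl⟩)
      · exact Submodule.smul_mem_smul (Ideal.mem_span_singleton_self π) Submodule.mem_top
  calc Module.finrank A C = Module.finrank A (⊤ : Submodule A C) := (finrank_top A C).symm
    _ = Module.finrank A (Submodule.span A (Set.range cc)) := by rw [eq_top_iff.mpr hspan]
    _ ≤ Fintype.card (Module.Free.ChooseBasisIndex A B) := finrank_range_le_card cc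
    _ = Module.finrank A B := (Module.finrank_eq_card_chooseBasisIndex A B).symm

end Rank

end Groth.Agent.Helper7.DvrKrasner
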