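import Mathlib
import Groth.Agent.Lib.Helper7.DvrKrasner.Main

set_option linter.style.haveILetI false
set_option linter.unusedVariables false
set_option linter.unusedSectionVars false
set_option linter.overlappingInstances false
set_option autoImplicit false
set_option backward.isDefEq.respectTransparency.types false
set_option backward.isDefEq.respectTransparency false
set_option synthInstance.maxHeartbeats 400000
set_option maxHeartbeats 1600000

universe u

/-! helper7: S16501, main argument. -/

open Polynomial IsLocalRing IntermediateField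
open Groth.Agent.Lib.Helper6 Groth.Agent.Lib.Helper4

namespace Groth.Agent.Helper7.DvrKrasner

section Setup

variable (A : Type u) [CommRing A] [IsDomain A] [IsDiscreteValuationRing A]
    (K : Type u) [Field K] [Algebra A K] [IsFractionRing A K]
    (L : Type u) [Field L] [Algebra K L] [Algebra A L] [IsScalarTower A K L]
    [FiniteDimensional K L] [Algebra.IsSeparable K L]
    (B : Type u) [CommRing B] [Algebra A B] [Algebra B L] [IsScalarTower A B L]
    [IsIntegralClosure B A L]

/-- a primitive integral element `θ` of `B` whose derivative value divides a power of `ϖ`. -/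
theorem exists_data (ϖ : A) (hϖ : Irreducible ϖ) :
    ∃ (θ b : B) (e : ℕ), K⟮algebraMap B L θ⟯ = ⊤ ∧
      aeval θ (derivative (minpoly A θ)) * b = algebraMap A B (ϖ ^ e) := by
  have hBL : Function.Injective (algebraMap B L) := IsIntegralClosure.algebraMap_injective B A L
  obtain ⟨α, hα⟩ := Field.exists_primitive_element K L
  obtain ⟨y, hy0, hy⟩ := exists_integral_multiples A K (L := L) {α}
  have hint : IsIntegral A (y • α) := hy α (Finset.mem_singleton_self α)
  obtain ⟨θ, hθ⟩ : ∃ θ : B, algebraMap B L θ = y • α :=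
    ⟨IsIntegralClosure.mk' B (y • α) hint, IsIntegralClosure.algebraMap_mk' B _ hint⟩
  have hyK : algebraMap A K y ≠ 0 := by
    rw [Ne, map_eq_zero_iff _ (IsFractionRing.injective A K)]
    exact hy0
  have hprim : K⟮algebraMap B L θ⟯ = ⊤ := by
    rw [eq_top_iff, ← hα, IntermediateField.adjoin_simple_le_iff]
    have h1 : algebraMap B L θ ∈ K⟮algebraMap B L θ⟯ :=
      IntermediateField.mem_adjoin_simple_self K _
    have h2 : α = (algebraMap A K y)⁻¹ • algebraMap B L θ := by
      rw [hθ, ← algebraMap_smul K y α, smul_smul, inv_mul_cancel₀ hyK, one_smul]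
    rw [h2]
    exact IntermediateField.smul_mem _ h1
  have hθLint : IsIntegral A (algebraMap B L θ) := (IsIntegralClosure.isIntegral A L θ).algebraMap
  have hminK : minpoly K (algebraMap B L θ) = (minpoly A θ).map (algebraMap A K) := by
    rw [minpoly.isIntegrallyClosed_eq_field_fractions' K hθLint, minpoly.algebraMap_eq hBL θ]
  have hsep : (minpoly K (algebraMap B L θ)).Separable := Algebra.IsSeparable.isSeparable K _
  have hder : aeval (algebraMap B L θ) (derivative (minpoly K (algebraMap B L θ))) ≠ 0 :=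
    hsep.aeval_derivative_ne_zero (minpoly.aeval K _)
  have hδ : algebraMap B L (aeval θ (derivative (minpoly A θ))) ≠ 0 := by
    have h1 : aeval (algebraMap B L θ) (derivative (minpoly K (algebraMap B L θ))) =
        algebraMap B L (aeval θ (derivative (minpoly A θ))) := by
      rw [hminK, Polynomial.derivative_map, Polynomial.aeval_map_algebraMap,
        Polynomial.aeval_algebraMap_apply]
    rw [← h1]
    exact hder
  obtain ⟨y', hy'0, hy'⟩ := exists_integral_multiples A K (L := L)
    {(algebraMap B L (aeval θ (derivative (minpoly A θ))))⁻¹}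
  have hint' : IsIntegral A (y' • (algebraMap B L (aeval θ (derivative (minpoly A θ))))⁻¹) :=
    hy' _ (Finset.mem_singleton_self _)
  obtain ⟨b₀, hb₀⟩ : ∃ b₀ : B, algebraMap B L b₀ =
      y' • (algebraMap B L (aeval θ (derivative (minpoly A θ))))⁻¹ :=
    ⟨IsIntegralClosure.mk' B _ hint', IsIntegralClosure.algebraMap_mk' B _ hint'⟩
  have hδb₀ : aeval θ (derivative (minpoly A θ)) * b₀ = algebraMap A B y' := by
    apply hBL
    rw [map_mul, hb₀, mul_smul_comm, mul_inv_cancel₀ hδ, ← IsScalarTower.algebraMap_apply A B L,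
      Algebra.algebraMap_eq_smul_one]
  obtain ⟨e, he⟩ := IsDiscreteValuationRing.associated_pow_irreducible hy'0 hϖ
  obtain ⟨u, hu⟩ := he
  refine ⟨θ, b₀ * algebraMap A B ↑u, e, hprim, ?_⟩
  rw [← mul_assoc, hδb₀, ← map_mul, hu]

/-- the converse direction. -/
theorem converse [IsAdicComplete (IsLocalRing.maximalIdeal A) A] (ϖ : A) (hϖ : Irreducible ϖ)
    (θ b : B) (e : ℕ) (hprim : K⟮algebraMap B L θ⟯ = ⊤)
    (hδb : aeval θ (derivative (minpoly A θ)) * b = algebraMap A B (ϖ ^ e))
    (C : Type u) [CommRing C] [IsDomain C] [IsDiscreteValuationRing C]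
    [Algebra A C] [Module.Finite A C] (m : ℕ) (hm : 2 * e + 1 < m)
    (φ : (B ⧸ Ideal.span {algebraMap A B (ϖ ^ m)}) ≃ₐ[A]
      (C ⧸ Ideal.span {algebraMap A C (ϖ ^ m)})) :
    Nonempty (B ≃ₐ[A] C) := by
  classical
  have hBL : Function.Injective (algebraMap B L) := IsIntegralClosure.algebraMap_injective B A L
  have hAL : Function.Injective (algebraMap A L) := by
    rw [IsScalarTower.algebraMap_eq A K L]
    exact (algebraMap K L).injective.comp (IsFractionRing.injective A K)
  haveI : Module.IsTorsionFree A L := Module.isTorsionFree_iff_algebraMap_injective.mpr hAL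
  haveI : Module.Finite A B := IsIntegralClosure.finite A K L B
  haveI : Module.Free A B := IsIntegralClosure.module_free A K L B
  have hrankB : Module.finrank A B = Module.finrank K L := IsIntegralClosure.rank A K L B
  -- completeness of `C`
  have hmaxA : maximalIdeal A = Ideal.span {ϖ} := hϖ.maximalIdeal_eq
  haveI hcA : IsAdicComplete (Ideal.span {ϖ}) A :=
    hmaxA ▸ (inferInstance : IsAdicComplete (maximalIdeal A) A)
  haveI hcC0 : IsAdicComplete (Ideal.span {ϖ}) C := FFAlg1.isAdicComplete_of_finite _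
  obtain ⟨t, ht⟩ : ∃ t : C, t = algebraMap A C ϖ := ⟨_, rfl⟩
  haveI hcC : IsAdicComplete (Ideal.span {t}) C := by
    have h := (IsAdicComplete.map_algebraMap_iff (I := Ideal.span {ϖ}) (S := C) (M := C)).mpr hcC0
    rwa [Ideal.map_span, Set.image_singleton, ← ht] at h
  have htm : ∀ j : ℕ, algebraMap A C (ϖ ^ j) = t ^ j := fun j => by rw [map_pow, ht]
  -- quotient maps
  obtain ⟨qB, hqB⟩ : ∃ qB : B →ₐ[A] (B ⧸ Ideal.span {algebraMap A B (ϖ ^ m)}),
      qB = Ideal.Quotient.mkₐ A _ := ⟨_, rfl⟩
  obtain ⟨qC, hqC⟩ : ∃ qC : C →ₐ[A] (C ⧸ Ideal.span {algebraMap A C (ϖ ^ m)}),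
      qC = Ideal.Quotient.mkₐ A _ := ⟨_, rfl⟩
  have hqCs : Function.Surjective qC := by rw [hqC]; exact Ideal.Quotient.mkₐ_surjective A _
  have hker : ∀ y : C, qC y = 0 → ∃ z : C, y = t ^ m * z := by
    intro y hy
    rw [hqC, Ideal.Quotient.mkₐ_eq_mk, Ideal.Quotient.eq_zero_iff_mem,
      Ideal.mem_span_singleton, htm] at hy
    exact hy
  obtain ⟨c₀, hc₀⟩ := hqCs (φ (qB θ))
  obtain ⟨b', hb'⟩ := hqCs (φ (qB b))
  have key : ∀ p : A[X], qC (aeval c₀ p) = φ (qB (aeval θ p)) := by
    intro p
    calc qC (aeval c₀ p) = aeval (qC c₀) p := (Polynomial.aeval_algHom_apply qC c₀ p).symm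
      _ = aeval (φ (qB θ)) p := by rw [hc₀]
      _ = φ (aeval (qB θ) p) := Polynomial.aeval_algHom_apply φ (qB θ) p
      _ = φ (qB (aeval θ p)) := by rw [Polynomial.aeval_algHom_apply qB θ p]
  obtain ⟨f, hf⟩ : ∃ f : A[X], f = minpoly A θ := ⟨_, rfl⟩
  rw [← hf] at hδb
  have hfθ : aeval θ f = 0 := by rw [hf]; exact minpoly.aeval A θ
  obtain ⟨q0, hq0⟩ : ∃ q0 : C, aeval c₀ f = t ^ m * q0 := by
    apply hker
    rw [key, hfθ, map_zero, map_zero]
  obtain ⟨z, hz⟩ : ∃ z : C, aeval c₀ (derivative f) * b' - t ^ e = t ^ m * z := by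
    apply hker
    have h1 : qC (aeval c₀ (derivative f) * b') = algebraMap A _ (ϖ ^ e) := by
      rw [map_mul, key, hb', ← map_mul, ← map_mul, hδb, AlgHom.commutes, AlgEquiv.commutes]
    have h2 : qC (t ^ e) = algebraMap A _ (ϖ ^ e) := by rw [← htm, AlgHom.commutes]
    rw [map_sub, h1, h2, sub_self]
  obtain ⟨u, hu'⟩ := Greenberg.isUnit_one_add_mul t (m - e) (by omega) z
  have hd : aeval c₀ (derivative f) * (b' * ↑u⁻¹) = t ^ e := by
    have h3 : aeval c₀ (derivative f) * b' = t ^ e * (1 + t ^ (m - e) * z) := by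
      have h5 : t ^ m = t ^ e * t ^ (m - e) := by
        rw [← pow_add]
        congr 1
        omega
      have h4 : aeval c₀ (derivative f) * b' = t ^ e + t ^ m * z := by
        rw [← hz]; ring
      rw [h4, h5]; ring
    rw [← mul_assoc, h3, ← hu', mul_assoc, Units.mul_inv, mul_one]
  obtain ⟨c, hc⟩ : ∃ c : C, aeval c f = 0 := by
    obtain ⟨c, hc⟩ := exists_root t (f.map (algebraMap A C)) c₀ (b' * ↑u⁻¹) e (m - 2 * e)
      (by omega)
      (by rw [Polynomial.derivative_map, Polynomial.eval_map_algebraMap]; exact hd)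
      (by
        rw [Polynomial.eval_map_algebraMap, hq0]
        have h6 : 2 * e + (m - 2 * e) = m := by omega
        rw [h6]
        exact dvd_mul_right _ _)
    exact ⟨c, by rwa [Polynomial.eval_map_algebraMap] at hc⟩
  -- fields
  have hAC : Function.Injective (algebraMap A C) := algebraMap_injective_of_dvr A C
  have hAM : Function.Injective (algebraMap A (FractionRing C)) := by
    rw [IsScalarTower.algebraMap_eq A C (FractionRing C)]
    exact (IsFractionRing.injective C (FractionRing C)).comp hAC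
  letI algKM : Algebra K (FractionRing C) := (IsFractionRing.lift hAM).toAlgebra
  haveI : IsScalarTower A K (FractionRing C) :=
    IsScalarTower.of_algebraMap_eq fun a => (IsFractionRing.lift_algebraMap hAM a).symm
  have hθLint : IsIntegral K (algebraMap B L θ) := Algebra.IsIntegral.isIntegral _
  have hminK : minpoly K (algebraMap B L θ) = f.map (algebraMap A K) := by
    rw [minpoly.isIntegrallyClosed_eq_field_fractions' K
      ((IsIntegralClosure.isIntegral A L θ).algebraMap), minpoly.algebraMap_eq hBL θ, hf]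
  have hroot : aeval (algebraMap C (FractionRing C) c) (minpoly K (algebraMap B L θ)) = 0 := by
    rw [hminK, Polynomial.aeval_map_algebraMap, Polynomial.aeval_algebraMap_apply, hc, map_zero]
  let pb := IntermediateField.adjoin.powerBasis hθLint
  let ψ₀ : K⟮algebraMap B L θ⟯ →ₐ[K] FractionRing C :=
    pb.lift (algebraMap C (FractionRing C) c)
      (by rw [IntermediateField.adjoin.powerBasis_gen, IntermediateField.minpoly_gen]; exact hroot)
  let eL : L ≃ₐ[K] K⟮algebraMap B L θ⟯ :=
    ((IntermediateField.equivOfEq hprim).trans IntermediateField.topEquiv).symm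
  let ψ : L →ₐ[K] FractionRing C := ψ₀.comp eL.toAlgHom
  have hψinj : Function.Injective ψ := ψ.toRingHom.injective
  -- ranks
  haveI : FaithfulSMul A C := (faithfulSMul_iff_algebraMap_injective A C).mpr hAC
  haveI : Algebra.IsIntegral A C := Algebra.IsIntegral.of_finite A C
  haveI : Module.Finite K (FractionRing C) :=
    Module.Finite.of_isLocalization A C (nonZeroDivisors A)
  have hrankM : Module.finrank K (FractionRing C) = Module.finrank A C :=
    IsFractionRing.finrank_eq A K C (FractionRing C)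
  have hπ : ϖ ^ m ∈ maximalIdeal A :=
    Ideal.pow_mem_of_mem _ ((IsLocalRing.mem_maximalIdeal ϖ).mpr hϖ.not_isUnit) m (by omega)
  have hle : Module.finrank A C ≤ Module.finrank A B :=
    finrank_le_of_quotient_equiv A (ϖ ^ m) hπ B C φ
  have hfin : Module.finrank K L = Module.finrank K (FractionRing C) :=
    le_antisymm (LinearMap.finrank_le_finrank_of_injective (f := ψ.toLinearMap) hψinj)
      (by rw [hrankM, ← hrankB]; exact hle)
  have hψsurj : Function.Surjective ψ :=
    (LinearMap.injective_iff_surjective_of_finrank_eq_finrank hfin (f := ψ.toLinearMap)).mp hψinj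
  let Ψ : L ≃ₐ[K] FractionRing C := AlgEquiv.ofBijective ψ ⟨hψinj, hψsurj⟩
  -- `C` as an integral closure of `A` in `L`
  letI algCL : Algebra C L :=
    ((Ψ.symm : FractionRing C →+* L).comp (algebraMap C (FractionRing C))).toAlgebra
  have hCL : ∀ y : C, algebraMap C L y = Ψ.symm (algebraMap C (FractionRing C) y) := fun y => rfl
  haveI : IsScalarTower A C L := IsScalarTower.of_algebraMap_eq fun a => by
    rw [hCL, ← IsScalarTower.algebraMap_apply A C (FractionRing C),
      IsScalarTower.algebraMap_apply A K (FractionRing C), AlgEquiv.commutes,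
      ← IsScalarTower.algebraMap_apply A K L]
  haveI : IsIntegralClosure C A L := by
    refine ⟨?_, ?_⟩
    · intro y₁ y₂ h
      rw [hCL, hCL] at h
      exact IsFractionRing.injective C (FractionRing C) (Ψ.symm.injective h)
    · intro x
      constructor
      · intro hx
        have h1 : IsIntegral A (Ψ x) := hx.map (Ψ.toAlgHom.restrictScalars A)
        have h2 : IsIntegral C (Ψ x) := h1.tower_top
        obtain ⟨y, hy⟩ := IsIntegrallyClosed.isIntegral_iff.mp h2
        exact ⟨y, by rw [hCL, hy, AlgEquiv.symm_apply_apply]⟩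
      · rintro ⟨y, rfl⟩
        exact (Algebra.IsIntegral.isIntegral (R := A) y).algebraMap
  exact ⟨IsIntegralClosure.equiv A B L C⟩

include K L in
/-- S16501. -/
theorem main [IsAdicComplete (IsLocalRing.maximalIdeal A) A] (ϖ : A) (hϖ : Irreducible ϖ) :
    ∃ m₀ : ℕ, 0 < m₀ ∧ ∀ (C : Type u) [CommRing C] [IsDomain C] [IsDiscreteValuationRing C]
      [Algebra A C] [Module.Finite A C],
      Nonempty (B ≃ₐ[A] C) ↔ ∃ m : ℕ, m₀ < m ∧
        Nonempty ((B ⧸ Ideal.span {algebraMap A B (ϖ ^ m)}) ≃ₐ[A]
          (C ⧸ Ideal.span {algebraMap A C (ϖ ^ m)})) := by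
  obtain ⟨θ, b, e, hprim, hδb⟩ := exists_data A K L B ϖ hϖ
  refine ⟨2 * e + 1, by omega, ?_⟩
  intro C _ _ _ _ _
  constructor
  · rintro ⟨E⟩
    have hE : (E : B →+* C) (algebraMap A B (ϖ ^ (2 * e + 2))) =
        algebraMap A C (ϖ ^ (2 * e + 2)) := E.commutes _
    refine ⟨2 * e + 2, by omega, ⟨Ideal.quotientEquivAlg _ _ E ?_⟩⟩
    rw [Ideal.map_span, Set.image_singleton, hE]
  · rintro ⟨m, hm, ⟨φ⟩⟩
    exact converse A K L B ϖ hϖ θ b e hprim hδb C m hm φ

end Setup

end Groth.Agent.Helper7.DvrKrasner
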